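import Cfsg.Agent.Lib.Classical.Pauli.Extract

set_option autoImplicit false
set_option linter.unusedSectionVars false

/-!
An absolutely irreducible two-group of symplectic type in dimension four with centre of order four has order 64: the
representatives of the cosets of the centre are orthogonal for the trace form and span the matrix algebra.
-/

namespace CfsgLib.Pauli

open Matrix
open scoped MatrixGroups commutatorElement
open Cfsg.Geo (matrixSet ActsAbsolutelyIrreducibly IsSymplecticTypeGroup)

variable {F : Type*} [Field F] [Finite F] {ι : Type} [Fintype ι] [DecidableEq ι]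
variable {R : Subgroup (GL ι F)}

local notation "G[" g "]" => ((Subtype.val g : GL ι F) : Matrix ι ι F)

theorem trace_zero_of_anti (h2 : (2 : F) ≠ 0) {h z : GL ι F}
    (e : (h : Matrix ι ι F) * z = -((z : Matrix ι ι F) * h)) : (z : Matrix ι ι F).trace = 0 := by
  have e1 := congrArg (fun X => (((h⁻¹ : GL ι F) : Matrix ι ι F) * X).trace) e
  rw [Matrix.mul_neg, Matrix.trace_neg, ← Matrix.mul_assoc, h.inv_mul, Matrix.one_mul,
    Matrix.trace_mul_comm ((h⁻¹ : GL ι F) : Matrix ι ι F), Matrix.mul_assoc, h.mul_inv, Matrix.mul_one] at e1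
  exact (mul_eq_zero.1 (show (2 : F) * (z : Matrix ι ι F).trace = 0 by linear_combination e1)).resolve_left h2

theorem card_eq_sixty_four [Nonempty ι] (h2 : (2 : F) ≠ 0) (h4 : Fintype.card ι = 4)
    (hs : IsSymplecticTypeGroup 2 R) (habs : ActsAbsolutelyIrreducibly (matrixSet R))
    (hZ : Nat.card (Subgroup.center R) = 4) {k : ℕ} (hR : Nat.card R = 2 ^ k) : Nat.card R = 64 := by
  classical
  haveI : Finite (GL ι F) := Finite.of_injective _ Units.val_injective
  have h4' : ∀ x : R, x ^ 4 = 1 := fun x => by
    have := Monoid.pow_exponent_eq_one x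
    rwa [hs.exponent_eq, show 2 * Nat.gcd 2 2 = 4 from rfl] at this
  have hD := commutator_le_center hs.pGroup h4' hs.cyclic_of_characteristic (Or.inl hZ)
  have hscal : ∀ u : R, u ∈ Subgroup.center R → ∃ c : F, G[u] = c • 1 := by
    intro u hu
    refine habs.2 _ ?_
    rintro _ ⟨g, hg, rfl⟩
    exact congrArg (fun x : R => G[x]) (Subgroup.mem_center_iff.1 hu ⟨g, hg⟩).symm
  have hone : ∀ c : F, c • (1 : Matrix ι ι F) = 1 → c = 1 := fun c e => by
    have := congrFun₂ e (Classical.arbitrary ι) (Classical.arbitrary ι)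
    simpa using this
  have htr : ∀ z : R, z ∉ Subgroup.center R → G[z].trace = 0 := by
    intro z hz
    obtain ⟨h, hh⟩ : ∃ h : R, ¬ h * z = z * h := by
      by_contra hall
      push Not at hall
      exact hz (Subgroup.mem_center_iff.2 hall)
    obtain ⟨-, hc1, hc2⟩ := square_and_commutator h4' hD h z
    have e : h * z = ⁅h, z⁆ * (z * h) := by rw [commutatorElement_def]; group
    obtain ⟨c, hc⟩ := hscal _ hc1
    have e2 := congrArg (fun x : R => G[x]) hc2
    simp only [SubgroupClass.coe_pow, Units.val_pow_eq_pow_val, hc, smul_pow, one_pow, Subgroup.coe_one,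
      Units.val_one] at e2
    have e' := congrArg (fun x : R => G[x]) e
    simp only [Subgroup.coe_mul, Units.val_mul] at e'
    rw [hc, smul_mul_assoc, one_mul] at e'
    rcases sq_eq_one_iff.1 (hone _ e2) with rfl | rfl
    · rw [one_smul] at e'
      exact absurd (Subtype.ext (Units.ext e') : h * z = z * h) hh
    · rw [neg_one_smul] at e'
      exact trace_zero_of_anti h2 e'
  cases nonempty_fintype (R ⧸ Subgroup.center R)
  have hcard := Subgroup.card_eq_card_quotient_mul_card_subgroup (Subgroup.center R)
  rw [hZ, Nat.card_eq_fintype_card (α := R ⧸ Subgroup.center R)] at hcard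
  obtain ⟨G, hG⟩ : ∃ G : R ⧸ Subgroup.center R → Matrix ι ι F, G = fun q => G[q.out] := ⟨_, rfl⟩
  have hfour : ((4 : ℕ) : F) ≠ 0 := by
    rw [show ((4 : ℕ) : F) = 2 * 2 by norm_num]; exact mul_ne_zero h2 h2
  have hind : LinearIndependent F G := by
    rw [Fintype.linearIndependent_iff]
    intro c hc q₀
    have e := congrArg (fun X => (G[q₀.out⁻¹] * X).trace) hc
    simp only [Finset.mul_sum, mul_smul_comm, Matrix.trace_sum, Matrix.trace_smul, mul_zero, Matrix.trace_zero] at e
    rw [Finset.sum_eq_single q₀ (fun q _ hq => ?_) (by simp)] at e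
    · rw [hG] at e
      dsimp only at e
      rw [← Units.val_mul, ← Subgroup.coe_mul, inv_mul_cancel, Subgroup.coe_one, Units.val_one,
        Matrix.trace_one, h4, smul_eq_mul] at e
      exact (mul_eq_zero.1 e).resolve_right hfour
    · rw [hG]
      dsimp only
      rw [← Units.val_mul, ← Subgroup.coe_mul, htr _ (fun hmem => hq ?_), smul_zero]
      have h1 := (QuotientGroup.eq (s := Subgroup.center R)).2 hmem
      rwa [QuotientGroup.out_eq', QuotientGroup.out_eq', eq_comm] at h1
  have hmat : Module.finrank F (Matrix ι ι F) = 16 := by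
    rw [Module.finrank_matrix, h4, Module.finrank_self]
  have hle : Fintype.card (R ⧸ Subgroup.center R) ≤ 16 := hmat ▸ hind.fintype_card_le_finrank
  cases nonempty_fintype R
  have hRne : ((Fintype.card R : ℕ) : F) ≠ 0 := by
    rw [← Nat.card_eq_fintype_card, hR]
    push_cast
    exact pow_ne_zero _ h2
  have hmem : ∀ g : R, G[g] ∈ Submodule.span F (Set.range G) := by
    intro g
    obtain ⟨z, hz⟩ := QuotientGroup.mk_out_eq_mul (Subgroup.center R) g
    obtain ⟨c, hc⟩ := hscal _ (inv_mem z.2)
    have hg : g = (g : R ⧸ Subgroup.center R).out * ((z : R))⁻¹ := by rw [hz, mul_inv_cancel_right]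
    rw [hg, Subgroup.coe_mul, Units.val_mul, hc, Matrix.mul_smul, Matrix.mul_one]
    exact Submodule.smul_mem _ _ (Submodule.subset_span ⟨_, by rw [hG]⟩)
  have htop : Submodule.span F (Set.range G) = ⊤ := by
    refine eq_top_iff.2 fun X _ => ?_
    rw [Matrix.matrix_eq_sum_single X]
    refine Submodule.sum_mem _ fun b _ => Submodule.sum_mem _ fun k _ => ?_
    rw [show Matrix.single b k (X b k) = X b k • Matrix.single b k (1 : F) by
      rw [Matrix.smul_single, smul_eq_mul, mul_one]]
    refine Submodule.smul_mem _ _ ?_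
    have key : ∀ a j, ∑ g : R, G[g⁻¹] k b * G[g] a j =
        if a = b ∧ j = k then ((Fintype.card R : ℕ) : F) / 4 else 0 := by
      intro a j
      obtain ⟨S, hS⟩ : ∃ S, S = ∑ g : R, G[g] * Matrix.single j k (1 : F) * G[g⁻¹] := ⟨_, rfl⟩
      obtain ⟨s, hs⟩ := habs.2 S (by
        rintro _ ⟨w, hw, rfl⟩
        obtain ⟨v, rfl⟩ : ∃ v : R, (v : GL ι F) = w := ⟨⟨w, hw⟩, rfl⟩
        dsimp only
        rw [hS, Finset.sum_mul, Finset.mul_sum]
        refine Fintype.sum_equiv (Equiv.mulLeft v⁻¹) _ _ fun g => ?_
        simp only [Equiv.coe_mulLeft, _root_.mul_inv_rev, inv_inv, Subgroup.coe_mul, Units.val_mul,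
          ← Matrix.mul_assoc]
        rw [← Units.val_mul, ← Subgroup.coe_mul, mul_inv_cancel, Subgroup.coe_one, Units.val_one, Matrix.one_mul])
      have hent : ∀ a b, S a b = ∑ g : R, G[g⁻¹] k b * G[g] a j := fun a b => by
        rw [hS, Matrix.sum_apply]
        refine Finset.sum_congr rfl fun g _ => ?_
        rw [mul_comm, Matrix.mul_apply, Finset.sum_eq_single k (fun x _ hx => ?_) (by simp)]
        · rw [Matrix.mul_single_apply_same, mul_one]
        · rw [Matrix.mul_single_apply_of_ne _ _ _ _ _ hx, zero_mul]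
      have htrS : S.trace = ((Fintype.card R : ℕ) : F) * (if j = k then 1 else 0) := by
        rw [hS, Matrix.trace_sum]
        have : ∀ g : R, (G[g] * Matrix.single j k (1 : F) * G[g⁻¹]).trace = if j = k then (1 : F) else 0 := by
          intro g
          rw [Matrix.trace_mul_comm, ← Matrix.mul_assoc, ← Units.val_mul, ← Subgroup.coe_mul, inv_mul_cancel,
            Subgroup.coe_one, Units.val_one, Matrix.one_mul]
          split_ifs with h
          · rw [h, Matrix.trace_single_eq_same]
          · rw [Matrix.trace_single_eq_of_ne _ _ _ h]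
        simp only [this, Finset.sum_const, Finset.card_univ, nsmul_eq_mul]
      rw [← hent, hs]
      rw [hs, Matrix.trace_smul, Matrix.trace_one, h4, smul_eq_mul] at htrS
      push_cast at htrS
      have h4F : (4 : F) ≠ 0 := by exact_mod_cast hfour
      by_cases hab : a = b
      · subst hab
        rw [Matrix.smul_apply, Matrix.one_apply_eq, smul_eq_mul, mul_one]
        by_cases hjk : j = k
        · rw [if_pos ⟨rfl, hjk⟩, eq_div_iff h4F, htrS, if_pos hjk, mul_one]
        · rw [if_neg (fun e => hjk e.2)]
          rw [if_neg hjk, mul_zero] at htrS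
          exact (mul_eq_zero.1 htrS).resolve_right h4F
      · rw [Matrix.smul_apply, Matrix.one_apply_ne hab, smul_zero, if_neg (fun e => hab e.1)]
    have hsum : Matrix.single b k (1 : F) =
        (4 / ((Fintype.card R : ℕ) : F)) • ∑ g : R, G[g⁻¹] k b • G[g] := by
      ext a j
      rw [Matrix.smul_apply, Matrix.sum_apply]
      simp only [Matrix.smul_apply, smul_eq_mul]
      rw [key a j, Matrix.single_apply]
      have h4F : (4 : F) ≠ 0 := by exact_mod_cast hfour
      by_cases h : b = a ∧ k = j
      · rw [if_pos h, if_pos ⟨h.1.symm, h.2.symm⟩]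
        field_simp
      · rw [if_neg h, if_neg (fun e => h ⟨e.1.symm, e.2.symm⟩), mul_zero]
    rw [hsum]
    exact Submodule.smul_mem _ _ (Submodule.sum_mem _ fun g _ => Submodule.smul_mem _ _ (hmem g))
  have hge : 16 ≤ Fintype.card (R ⧸ Subgroup.center R) := by
    rw [← hmat, ← finrank_top, ← htop]
    exact finrank_range_le_card G
  omega

end CfsgLib.Pauli
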