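import Cfsg.Agent.Lib.Classical.Pauli.Extract
import Cfsg.Agent.Lib.Classical.OrthFrameMax.Basic
import Cfsg.Agent.Lib.Classical.Klein

set_option autoImplicit false
set_option linter.unusedSectionVars false

/-!
The standard frame of four matrices, a basis bringing any frame to it, and how its products act on an orthogonal
basis of the second exterior power.
-/

namespace CfsgLib.Classical.SLFour.SympFour

open Matrix CfsgLib.Pauli
open CfsgLib.Classical
open scoped MatrixGroups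

variable {F : Type*} [Field F]

def A0 (F : Type*) [Field F] : Matrix (Fin 4) (Fin 4) F := !![1, 0, 0, 0; 0, -1, 0, 0; 0, 0, 1, 0; 0, 0, 0, -1]
def B0 (F : Type*) [Field F] : Matrix (Fin 4) (Fin 4) F := !![0, 1, 0, 0; 1, 0, 0, 0; 0, 0, 0, 1; 0, 0, 1, 0]
def C0 (i : F) : Matrix (Fin 4) (Fin 4) F := !![i, 0, 0, 0; 0, i, 0, 0; 0, 0, -i, 0; 0, 0, 0, -i]
def D0 (F : Type*) [Field F] : Matrix (Fin 4) (Fin 4) F := !![0, 0, -1, 0; 0, 0, 0, -1; 1, 0, 0, 0; 0, 1, 0, 0]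

/-- The standard frame. -/
def std (i : F) (hi : i * i = -1) : Pauli.Frame F (Fin 4) where
  a := A0 F
  b := B0 F
  c := C0 i
  d := D0 F
  aa := by ext r s; fin_cases r <;> fin_cases s <;> simp [A0, Matrix.mul_apply, Fin.sum_univ_four]
  bb := by ext r s; fin_cases r <;> fin_cases s <;> simp [B0, Matrix.mul_apply, Fin.sum_univ_four]
  cc := by ext r s; fin_cases r <;> fin_cases s <;> simp [C0, Matrix.mul_apply, Fin.sum_univ_four, hi]
  dd := by ext r s; fin_cases r <;> fin_cases s <;> simp [D0, Matrix.mul_apply, Fin.sum_univ_four]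
  ba := by ext r s; fin_cases r <;> fin_cases s <;> simp [A0, B0, Matrix.mul_apply, Fin.sum_univ_four]
  dc := by ext r s; fin_cases r <;> fin_cases s <;> simp [C0, D0, Matrix.mul_apply, Fin.sum_univ_four]
  ca := by ext r s; fin_cases r <;> fin_cases s <;> simp [A0, C0, Matrix.mul_apply, Fin.sum_univ_four]
  cb := by ext r s; fin_cases r <;> fin_cases s <;> simp [B0, C0, Matrix.mul_apply, Fin.sum_univ_four]
  da := by ext r s; fin_cases r <;> fin_cases s <;> simp [A0, D0, Matrix.mul_apply, Fin.sum_univ_four]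
  db := by ext r s; fin_cases r <;> fin_cases s <;> simp [B0, D0, Matrix.mul_apply, Fin.sum_univ_four]

/-- Every frame is standard in some basis. -/
theorem exists_basis (h2 : (2 : F) ≠ 0) (f : Pauli.Frame F (Fin 4)) {i : F} (hi : i * i = -1) :
    ∃ P : GL (Fin 4) F, ∀ v, f.M v * (P : Matrix (Fin 4) (Fin 4) F) =
      (P : Matrix (Fin 4) (Fin 4) F) * (std i hi).M v := by
  classical
  obtain ⟨E, hE⟩ : ∃ E : Matrix (Fin 4) (Fin 4) F, E = (1 + f.a) * (1 + (-i) • f.c) := ⟨_, rfl⟩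
  have hEa : f.a * E = E := by
    rw [hE, ← mul_assoc, mul_add f.a, mul_one, f.aa, add_comm f.a]
  have hEc : f.c * E = i • E := by
    have e1 : f.c * (1 + f.a) = (1 + f.a) * f.c := by rw [mul_add, add_mul, mul_one, one_mul, f.ca]
    rw [hE, ← mul_assoc, e1, mul_assoc, ← mul_smul_comm]
    congr 1
    rw [mul_add, mul_one, mul_smul_comm, f.cc, smul_add, smul_smul]
    linear_combination (norm := module) hi • f.c
  have hE0 : E ≠ 0 := by
    intro e0
    let co : Pauli.V → F := fun v => (if v = (0, 0, 0, 0) then 1 else 0) + (if v = (1, 0, 0, 0) then 1 else 0) +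
      ((if v = (0, 0, 1, 0) then -i else 0) + (if v = (1, 0, 1, 0) then -i else 0))
    have hsum : ∑ v, co v • f.M v = 0 := by
      rw [← e0, hE]
      simp only [co, add_smul, Finset.sum_add_distrib, ite_smul, zero_smul, Finset.sum_ite_eq', Finset.mem_univ,
        if_true, one_smul]
      rw [show f.M ((0, 0, 0, 0) : Pauli.V) = 1 from f.M_zero, ← f.a_eq, ← f.c_eq,
        show f.M ((1, 0, 1, 0) : Pauli.V) = f.a * f.c by simp [Pauli.Frame.M, ZMod.val_one]]
      simp only [mul_add, add_mul, one_mul, mul_one, mul_smul_comm]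
      module
    have := Fintype.linearIndependent_iff.1 (f.indep h2) co hsum (0, 0, 0, 0)
    simp [co] at this
  obtain ⟨w, hw⟩ : ∃ w, E *ᵥ w ≠ 0 := by
    by_contra hall
    push Not at hall
    exact hE0 (Matrix.ext_of_mulVec_single fun t => by rw [hall, Matrix.zero_mulVec])
  obtain ⟨v, hv⟩ : ∃ v, v = E *ᵥ w := ⟨_, rfl⟩
  rw [← hv] at hw
  have hav : f.a *ᵥ v = v := by rw [hv, Matrix.mulVec_mulVec, hEa]
  have hcv : f.c *ᵥ v = i • v := by rw [hv, Matrix.mulVec_mulVec, hEc, Matrix.smul_mulVec]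
  obtain ⟨u, hu⟩ : ∃ u : Fin 4 → Fin 4 → F, u = ![v, f.b *ᵥ v, f.d *ᵥ v, f.b *ᵥ (f.d *ᵥ v)] := ⟨_, rfl⟩
  have u0 : u 0 = v := by rw [hu]; rfl
  have u1 : u 1 = f.b *ᵥ v := by rw [hu]; rfl
  have u2 : u 2 = f.d *ᵥ v := by rw [hu]; rfl
  have u3 : u 3 = f.b *ᵥ (f.d *ᵥ v) := by rw [hu]; rfl
  have mm : ∀ (X Y : Matrix (Fin 4) (Fin 4) F) z, X *ᵥ (Y *ᵥ z) = (X * Y) *ᵥ z := fun X Y z =>
    Matrix.mulVec_mulVec z X Y
  have hab : f.a * f.b = -(f.b * f.a) := by rw [f.ba, neg_neg]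
  have hcd : f.c * f.d = -(f.d * f.c) := by rw [f.dc, neg_neg]
  have a1 : f.a *ᵥ u 1 = -u 1 := by rw [u1, mm, hab, Matrix.neg_mulVec, ← mm, hav]
  have a2 : f.a *ᵥ u 2 = u 2 := by rw [u2, mm, ← f.da, ← mm, hav]
  have a3 : f.a *ᵥ u 3 = -u 3 := by
    rw [u3, mm, hab, Matrix.neg_mulVec, ← mm, mm f.a, ← f.da, ← mm f.d, hav]
  have c1 : f.c *ᵥ u 1 = i • u 1 := by rw [u1, mm, f.cb, ← mm, hcv, Matrix.mulVec_smul]
  have c2 : f.c *ᵥ u 2 = -(i • u 2) := by rw [u2, mm, hcd, Matrix.neg_mulVec, ← mm, hcv, Matrix.mulVec_smul]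
  have c3 : f.c *ᵥ u 3 = -(i • u 3) := by
    rw [u3, mm, f.cb, ← mm, mm f.c, hcd, Matrix.neg_mulVec, ← mm, hcv, Matrix.mulVec_smul, Matrix.mulVec_neg,
      Matrix.mulVec_smul]
  have b1 : f.b *ᵥ u 1 = u 0 := by rw [u1, u0, mm, f.bb, Matrix.one_mulVec]
  have b3 : f.b *ᵥ u 3 = u 2 := by rw [u3, u2, mm, f.bb, Matrix.one_mulVec]
  have d1 : f.d *ᵥ u 1 = u 3 := by rw [u1, u3, mm, f.db, ← mm]
  have d2 : f.d *ᵥ u 2 = -u 0 := by rw [u2, u0, mm, f.dd, Matrix.neg_mulVec, Matrix.one_mulVec]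
  have d3 : f.d *ᵥ u 3 = -u 1 := by
    rw [u3, u1, mm, f.db, ← mm, mm f.d, f.dd, Matrix.neg_mulVec, Matrix.one_mulVec, Matrix.mulVec_neg]
  have hune : ∀ j, u j ≠ 0 := by
    have hb : ∀ z, f.b *ᵥ z = 0 → z = 0 := fun z e => by
      rw [← Matrix.one_mulVec z, ← f.bb, ← mm, e, Matrix.mulVec_zero]
    have hd : ∀ z, f.d *ᵥ z = 0 → z = 0 := fun z e => by
      have e1 : f.d *ᵥ (f.d *ᵥ z) = -z := by rw [mm, f.dd, Matrix.neg_mulVec, Matrix.one_mulVec]
      rw [e, Matrix.mulVec_zero] at e1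
      exact neg_eq_zero.1 e1.symm
    intro j
    fin_cases j
    · exact u0.symm ▸ hw
    · exact fun e => hw (hb _ (u1 ▸ e))
    · exact fun e => hw (hd _ (u2 ▸ e))
    · exact fun e => hw (hd _ (hb _ (u3 ▸ e)))
  have hli : LinearIndependent F u := by
    rw [Fintype.linearIndependent_iff]
    intro x hx
    have hi0 : i ≠ 0 := fun e => by rw [e] at hi; simp at hi
    have h4 : ∀ y : Fin 4 → F, ∑ j, y j • u j = y 0 • u 0 + y 1 • u 1 + y 2 • u 2 + y 3 • u 3 := fun y =>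
      Fin.sum_univ_four _
    rw [h4] at hx
    have e1 := congrArg (f.a *ᵥ ·) hx
    simp only [Matrix.mulVec_add, Matrix.mulVec_smul, Matrix.mulVec_zero, a1, a2, a3, u0, hav] at e1
    rw [← u0] at e1
    have p1 : x 0 • u 0 + x 2 • u 2 = 0 := (smul_eq_zero.1
      (show (2 : F) • (x 0 • u 0 + x 2 • u 2) = 0 by linear_combination (norm := module) hx + e1)).resolve_left h2
    have p2 : x 1 • u 1 + x 3 • u 3 = 0 := (smul_eq_zero.1
      (show (2 : F) • (x 1 • u 1 + x 3 • u 3) = 0 by linear_combination (norm := module) hx - e1)).resolve_left h2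
    have q1 := congrArg (f.c *ᵥ ·) p1
    have q2 := congrArg (f.c *ᵥ ·) p2
    simp only [Matrix.mulVec_add, Matrix.mulVec_smul, Matrix.mulVec_zero, c1, c2, c3, u0, hcv] at q1 q2
    rw [← u0] at q1
    have h2i : (2 * i : F) ≠ 0 := mul_ne_zero h2 hi0
    have z0 : x 0 • u 0 = 0 := (smul_eq_zero.1
      (show (2 * i : F) • (x 0 • u 0) = 0 by linear_combination (norm := module) i • p1 + q1)).resolve_left h2i
    have z1 : x 1 • u 1 = 0 := (smul_eq_zero.1
      (show (2 * i : F) • (x 1 • u 1) = 0 by linear_combination (norm := module) i • p2 + q2)).resolve_left h2i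
    have z2 : x 2 • u 2 = 0 := by rw [z0, zero_add] at p1; exact p1
    have z3 : x 3 • u 3 = 0 := by rw [z1, zero_add] at p2; exact p2
    intro j
    fin_cases j
    · exact (smul_eq_zero.1 z0).resolve_right (hune 0)
    · exact (smul_eq_zero.1 z1).resolve_right (hune 1)
    · exact (smul_eq_zero.1 z2).resolve_right (hune 2)
    · exact (smul_eq_zero.1 z3).resolve_right (hune 3)
  obtain ⟨T, hT⟩ : ∃ T : Matrix (Fin 4) (Fin 4) F, T = (Matrix.of u)ᵀ := ⟨_, rfl⟩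
  have hTu : IsUnit T := Matrix.linearIndependent_cols_iff_isUnit.1 (by rw [hT]; exact hli)
  have hgen : ∀ (X X0 : Matrix (Fin 4) (Fin 4) F), (∀ j, X *ᵥ u j = ∑ l, X0 l j • u l) → X * T = T * X0 := by
    intro X X0 h
    refine Matrix.ext_of_mulVec_single fun j => ?_
    rw [← Matrix.mulVec_mulVec, ← Matrix.mulVec_mulVec, Matrix.mulVec_single_one, Matrix.mulVec_single_one, hT]
    show X *ᵥ u j = (Matrix.of u)ᵀ *ᵥ fun l => X0 l j
    rw [h, Matrix.mulVec_transpose, Matrix.vecMul_eq_sum]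
    rfl
  have ga : f.a * T = T * A0 F := hgen _ _ fun j => by
    fin_cases j <;> simp [A0, Fin.sum_univ_four, a1, a2, a3] <;> rw [u0, hav]
  have gb : f.b * T = T * B0 F := hgen _ _ fun j => by
    fin_cases j <;> simp [B0, Fin.sum_univ_four, b1, b3] <;> simp [u0, u1, u2, u3]
  have gc : f.c * T = T * C0 i := hgen _ _ fun j => by
    fin_cases j <;> simp [C0, Fin.sum_univ_four, c1, c2, c3] <;> rw [u0, hcv]
  have gd : f.d * T = T * D0 F := hgen _ _ fun j => by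
    fin_cases j <;> simp [D0, Fin.sum_univ_four, d1, d2, d3] <;> simp [u0, u1, u2, u3]
  obtain ⟨P, hP⟩ := hTu
  refine ⟨P, fun v => ?_⟩
  rw [hP]
  have sa : SemiconjBy T (A0 F) f.a := ga.symm
  have sb : SemiconjBy T (B0 F) f.b := gb.symm
  have sc : SemiconjBy T (C0 i) f.c := gc.symm
  have sd : SemiconjBy T (D0 F) f.d := gd.symm
  exact (((sa.pow_right _).mul_right (sb.pow_right _)).mul_right ((sc.pow_right _).mul_right (sd.pow_right _))).eq.symm

theorem det_gens (i : F) (hi : i * i = -1) :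
    (A0 F).det = 1 ∧ (B0 F).det = 1 ∧ (C0 i).det = 1 ∧ (D0 F).det = 1 := by
  refine ⟨?_, ?_, ?_, ?_⟩ <;>
    simp [A0, B0, C0, D0, Matrix.det_succ_row_zero, Fin.sum_univ_succ, Fin.succAbove, hi]

theorem det_std (i : F) (hi : i * i = -1) (v : Pauli.V) : ((std i hi).M v).det = 1 := by
  obtain ⟨h1, h2, h3, h4⟩ := det_gens i hi
  simp [Pauli.Frame.M, std, h1, h2, h3, h4]

/-- The orthogonal basis of the exterior square. -/
def sixE (i : F) : Fin 6 → Fin 3 ⊕ Fin 3 → F :=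
  ![Sum.elim ![1, 0, 0] ![1, 0, 0], Sum.elim ![i, 0, 0] ![-i, 0, 0],
    Sum.elim ![0, 1, 0] ![0, 1, 0], Sum.elim ![0, i, 0] ![0, -i, 0],
    Sum.elim ![0, 0, 1] ![0, 0, 1], Sum.elim ![0, 0, i] ![0, 0, -i]]

/-- The signs of the generators and of the scalar `i` on that basis. -/
def sv (v : Pauli.V) (t : ZMod 2) (l : Fin 6) : ZMod 2 :=
  v.1 * ![1, 1, 0, 0, 1, 1] l + v.2.1 * ![1, 1, 1, 0, 0, 1] l +
    (v.2.2.1 * ![1, 1, 0, 0, 0, 0] l + v.2.2.2 * ![0, 1, 0, 0, 0, 1] l) + t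

theorem sv_facts : (∀ v t, ∑ l, sv v t l = 0) ∧
    (∀ σ : Fin 6 → ZMod 2, ∑ l, σ l = 0 → ∃ v t, sv v t = σ) ∧
    (∀ l m : Fin 6, l ≠ m → ∃ v, sv v 0 l ≠ sv v 0 m) := by
  refine ⟨?_, ?_, ?_⟩ <;> decide +kernel

theorem comp_smul (c : F) (A : Matrix (Fin 4) (Fin 4) F) : Klein.comp (c • A) = (c * c) • Klein.comp A := by
  ext s t
  simp [Klein.comp, Klein.wedge]
  ring

set_option maxHeartbeats 1000000 in
theorem act_gens (i : F) (hi : i * i = -1) (l : Fin 6) :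
    Klein.comp (A0 F) *ᵥ sixE i l = sg F (![1, 1, 0, 0, 1, 1] l) • sixE i l ∧
    Klein.comp (B0 F) *ᵥ sixE i l = sg F (![1, 1, 1, 0, 0, 1] l) • sixE i l ∧
    Klein.comp (C0 i) *ᵥ sixE i l = sg F (![1, 1, 0, 0, 0, 0] l) • sixE i l ∧
    Klein.comp (D0 F) *ᵥ sixE i l = sg F (![0, 1, 0, 0, 0, 1] l) • sixE i l := by
  refine ⟨?_, ?_, ?_, ?_⟩ <;> fin_cases l <;> funext s <;> rcases s with s | s <;> fin_cases s <;>
    simp [Klein.comp, Klein.wedge, Klein.pr, sixE, A0, B0, C0, D0, Matrix.mulVec, dotProduct,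
      Fintype.sum_sum_type, Fin.sum_univ_three, sg_zero, sg_one, hi]

theorem pow_act {X : Matrix (Fin 4) (Fin 4) F} {x : Fin 3 ⊕ Fin 3 → F} {σ : ZMod 2}
    (h : Klein.comp X *ᵥ x = sg F σ • x) (z : ZMod 2) :
    Klein.comp (X ^ z.val) *ᵥ x = sg F (z * σ) • x := by
  rcases (show ∀ z : ZMod 2, z = 0 ∨ z = 1 by decide) z with rfl | rfl
  · rw [ZMod.val_zero, pow_zero, Klein.comp_one, Matrix.one_mulVec, zero_mul, sg_zero, one_smul]
  · rw [ZMod.val_one, pow_one, h, one_mul]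

/-- The action of a scalar multiple of a product. -/
theorem act_std (i : F) (hi : i * i = -1) (v : Pauli.V) {u : F} {t : ZMod 2} (hu : u * u = sg F t) (l : Fin 6) :
    Klein.comp (u • (std i hi).M v) *ᵥ sixE i l = sg F (sv v t l) • sixE i l := by
  obtain ⟨h1, h2, h3, h4⟩ := act_gens i hi l
  rw [comp_smul, hu, Matrix.smul_mulVec, Pauli.Frame.M, Klein.comp_mul, Klein.comp_mul, Klein.comp_mul,
    ← Matrix.mulVec_mulVec, ← Matrix.mulVec_mulVec, ← Matrix.mulVec_mulVec]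
  simp only [std]
  rw [pow_act h4, Matrix.mulVec_smul, pow_act h3, smul_smul, Matrix.mulVec_smul, Matrix.mulVec_smul, pow_act h2,
    smul_smul, Matrix.mulVec_smul, pow_act h1, smul_smul, smul_smul, sv, sg_add, sg_add, sg_add, sg_add]
  congr 1
  ring

end CfsgLib.Classical.SLFour.SympFour
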