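import Cfsg.Agent.Lib.Classical.SLFour.SympFour.Card
import Cfsg.Agent.Lib.Classical.SLFour.SympFour.Std
import Cfsg.Agent.Lib.Classical.SLFour.FrameSix.Five
import Cfsg.Agent.Lib.Classical.Pauli.Normal
import Cfsg.Agent.Lib.Classical.OmegaOnto
import Cfsg.Agent.Lib.Classical.SubspaceStab
import Cfsg.Agent.Lib.Classical.LinearSubfield

set_option autoImplicit false
set_option linter.unusedSectionVars false

/-!
In `SL_4(p)`, `p ≡ 1 (mod 4)`, the normaliser of the group of order 64 of symplectic type is maximal: its image in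
`Ω^+_6(p)` is the stabiliser of a frame of six lines.
-/

namespace CfsgLib.Classical.SLFour.SympFour

open Matrix CfsgLib.Pauli
open CfsgLib.Classical CfsgLib.Orth
open Cfsg.Geo (matrixSet subgroupNormalizer IsLinearSymplecticTypeData)
open scoped MatrixGroups

variable {F : Type*} [Field F]

local notation "V6" => Fin 3 ⊕ Fin 3 → F

/-- The Klein map with its range and kernel. -/
theorem exists_klein [Fintype F] (h2 : (2 : F) ≠ 0) :
    ∃ (Q : QuadraticForm F (Fin 3 ⊕ Fin 3 → F)) (φ : SpecialLinearGroup (Fin 4) F →* Grp Q),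
      ⇑Q = Cfsg.quadFormPlus 3 F ∧ Nondeg Q ∧
      (∀ g x, ap (φ g) x = Klein.comp g.1 *ᵥ x) ∧ φ.range = Cfsg.Omega F ⇑Q ∧
      ∀ g h, φ g = φ h → ∃ c : F, c * c = 1 ∧ g.1 = c • h.1 := by
  classical
  obtain ⟨Q, hQ, hB⟩ := exists_quadForm_plus (F := F) 3
  let M : SpecialLinearGroup (Fin 4) F →* Matrix (Fin 3 ⊕ Fin 3) (Fin 3 ⊕ Fin 3) F :=
    { toFun := fun g => Klein.comp g.1
      map_one' := Klein.comp_one
      map_mul' := fun a b => Klein.comp_mul a.1 b.1 }
  let φ : SpecialLinearGroup (Fin 4) F →* Grp Q := M.toHomUnits.codRestrict _ fun g x _ => by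
    show Q (Klein.comp g.1 *ᵥ x) = Q x
    rw [hQ, Klein.comp_isometry, g.2, one_mul]
  have hap : ∀ g x, ap (φ g) x = Klein.comp g.1 *ᵥ x := fun g x => rfl
  have hker : ∀ g h, φ g = φ h → ∃ c : F, c * c = 1 ∧ g.1 = c • h.1 := by
    intro g h e
    obtain ⟨c, hc, hM⟩ := Klein.ker_scalar (g * h⁻¹).1 (Matrix.ext_of_mulVec_single fun t => by
      rw [← hap, map_mul, map_inv, e, mul_inv_cancel, ap_one, Matrix.one_mulVec])
    refine ⟨c, hc, ?_⟩
    have e1 : g.1 = (g * h⁻¹).1 * h.1 := (congrArg Subtype.val (inv_mul_cancel_right g h)).symm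
    rw [e1, hM, Matrix.smul_mul, Matrix.one_mul]
  refine ⟨Q, φ, hQ, hB, hap, ?_, hker⟩
  have hperf := commutator_SL_eq_top (F := F) (ι := Fin 4) (Or.inl (by simp))
  have hrange : φ.range ≤ Cfsg.Omega F ⇑Q := by
    rw [MonoidHom.range_eq_map, ← hperf]
    show _ ≤ commutator _
    rw [commutator_def, commutator_def, Subgroup.map_commutator]
    exact Subgroup.commutator_mono le_top le_top
  let f := φ.codRestrict (Cfsg.Omega F ⇑Q) fun g => hrange ⟨g, rfl⟩
  have hk : Nat.card f.ker ≤ 2 := by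
    have hsub : Function.Injective (fun x : f.ker => decide ((x.1.1 : Matrix (Fin 4) (Fin 4) F) = 1)) := by
      intro a b hab
      have hf : ∀ x : f.ker, φ x.1 = φ 1 := fun x => by
        rw [map_one]; exact congrArg Subtype.val (MonoidHom.mem_ker.1 x.2)
      obtain ⟨c, hc, ha⟩ := hker _ _ (hf a)
      obtain ⟨d, hd, hb⟩ := hker _ _ (hf b)
      replace ha : a.1.1 = c • 1 := ha
      replace hb : b.1.1 = d • 1 := hb
      refine Subtype.ext (Subtype.ext ?_)
      simp only [decide_eq_decide] at hab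
      have h11 : (-1 : F) ≠ 1 := fun e => h2 (by linear_combination -e)
      have hne : ((-1 : F) • (1 : Matrix (Fin 4) (Fin 4) F)) ≠ 1 := fun e => h11 (by
        simpa using congrFun (congrFun e 0) 0)
      rcases mul_self_eq_one_iff.1 hc with rfl | rfl <;> rcases mul_self_eq_one_iff.1 hd with rfl | rfl
      · rw [ha, hb]
      · exfalso; exact hne (hb ▸ hab.1 (by rw [ha, one_smul]))
      · exfalso; exact hne (ha ▸ hab.2 (by rw [hb, one_smul]))
      · rw [ha, hb]
    exact (Nat.card_le_card_of_injective _ hsub).trans (by simp)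
  have hsurj : Function.Surjective f := by
    refine surjective_of_count f (index_omega_odd hB h2 (by simp)) hk ?_
    rw [show Nat.card ↥(Cfsg.isometryGroup F ⇑Q) = Nat.card (Grp Q) from rfl,
      card_orth_plus 3 (by norm_num) hQ hB]
    have hcardSL := sub_one_mul_card_SL (F := F) (n := 4) (by norm_num)
    set q := Nat.card F with hqdef
    have hq : 2 ≤ q := Finite.one_lt_card
    have hSL : Nat.card (SpecialLinearGroup (Fin 4) F) = q ^ 6 * ((q ^ 3 - 1) * ((q ^ 2 - 1) * (q ^ 4 - 1))) := by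
      rw [← Nat.card_eq_fintype_card, ← hqdef, Fin.prod_univ_four] at hcardSL
      simp only [Fin.val_zero, Fin.val_one, Fin.val_two, show ((3 : Fin 4) : ℕ) = 3 from rfl] at hcardSL
      refine Nat.eq_of_mul_eq_mul_left (by omega : 0 < q - 1) (hcardSL.trans ?_)
      have e2 : q ^ 4 - q ^ 1 = q * (q ^ 3 - 1) := by rw [Nat.mul_sub]; ring_nf
      have e3 : q ^ 4 - q ^ 2 = q ^ 2 * (q ^ 2 - 1) := by rw [Nat.mul_sub]; ring_nf
      have e4 : q ^ 4 - q ^ 3 = q ^ 3 * (q - 1) := by rw [Nat.mul_sub]; ring_nf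
      rw [e2, e3, e4, pow_zero]
      ring
    rw [hSL]
    simp only [show (3 : ℕ) - 1 = 2 from rfl, Finset.prod_range_succ, Finset.prod_range_zero, one_mul]
    norm_num
    ring
  refine le_antisymm hrange fun x hx => ?_
  obtain ⟨g, hg⟩ := hsurj ⟨x, hx⟩
  exact ⟨g, congrArg Subtype.val hg⟩

theorem frame_six {Q : QuadraticForm F (Fin 3 ⊕ Fin 3 → F)} (hQ : ⇑Q = Cfsg.quadFormPlus 3 F) (hB : Nondeg Q)
    [Finite F] (h2 : (2 : F) ≠ 0) {i : F} (hi : i * i = -1) : FrameMax.Frame Q (sixE i) 1 := by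
  have hq : ∀ l, Q (sixE i l) = 1 := fun l => by
    fin_cases l <;> simp [hQ, Cfsg.quadFormPlus, sixE, Fin.sum_univ_three, hi]
  have horth : ∀ l m, l ≠ m → QuadraticMap.polar (⇑Q) (sixE i l) (sixE i m) = 0 := fun l m hlm => by
    fin_cases l <;> fin_cases m <;> first
      | exact absurd rfl hlm
      | (simp [QuadraticMap.polar, hQ, Cfsg.quadFormPlus, sixE, Fin.sum_univ_three, hi]; done)
      | (simp [QuadraticMap.polar, hQ, Cfsg.quadFormPlus, sixE, Fin.sum_univ_three]; ring1)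
      | (simp [QuadraticMap.polar, hQ, Cfsg.quadFormPlus, sixE, Fin.sum_univ_three]; linear_combination -hi)
      | (simp [QuadraticMap.polar, hQ, Cfsg.quadFormPlus, sixE, Fin.sum_univ_three]; linear_combination hi)
  refine ⟨hB, h2, one_ne_zero, hq, horth, ?_⟩
  refine LinearIndependent.span_eq_top_of_card_eq_finrank ?_ (by simp)
  rw [Fintype.linearIndependent_iff]
  intro g hg l
  have h1 := congrArg (QuadraticMap.polar (⇑Q) (sixE i l)) hg
  rw [← QuadraticMap.polarBilin_apply_apply, map_sum, Finset.sum_eq_single l (fun j _ hj => by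
      rw [map_smul, QuadraticMap.polarBilin_apply_apply, horth l j hj.symm, smul_zero])
    (fun hl => absurd (Finset.mem_univ l) hl), map_smul, QuadraticMap.polarBilin_apply_apply, b_self, hq,
    b_zero_right, smul_eq_mul] at h1
  exact (mul_eq_zero.1 h1).resolve_right (mul_ne_zero h2 one_ne_zero)

variable [Fintype F]

theorem not_mono {ι : Type} [Fintype ι] [DecidableEq ι] {Q : QuadraticForm F (ι → F)} {e : Fin 6 → ι → F} {a : F}
    (h : FrameMax.Frame Q e a) : ∃ g ∈ Cfsg.Omega F ⇑Q, ¬ FrameMax.Mono e g := by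
  classical
  obtain ⟨x, hx⟩ : ∃ x, x = e 0 + e 1 + e 2 + e 3 := ⟨_, rfl⟩
  have ho : ∀ {c d : Fin 6}, c ≠ d → QuadraticMap.polar (⇑Q) (e c) (e d) = 0 := fun hcd => h.orth _ _ hcd
  have hBx : QuadraticMap.polar (⇑Q) (e 0) x = 2 * a := by
    rw [hx, b_add_right, b_add_right, b_add_right, b_self, h.q, ho (by decide), ho (by decide), ho (by decide)]
    ring
  have hQx : Q x = 4 * a := by
    rw [hx, q_add, q_add, q_add, b_add_left, b_add_left, b_add_left, h.q, h.q, h.q, h.q,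
      ho (by decide), ho (by decide), ho (by decide), ho (by decide), ho (by decide), ho (by decide)]
    ring
  have h4a : (4 : F) * a ≠ 0 := by
    rw [show (4 : F) = 2 * 2 by norm_num]
    exact mul_ne_zero (mul_ne_zero h.two h.two) h.a0
  obtain ⟨r, hr⟩ := exists_refl h.nd (v := x) (by rw [hQx]; exact h4a)
  obtain ⟨s, hs⟩ := exists_refl h.nd (v := e 4) (by rw [h.q]; exact h.a0)
  refine ⟨r * s, ?_, fun hm => ?_⟩
  · have := QuotientGroup.eq.1 (refl_coset h.nd (by rw [h.finrank_V]; norm_num) hr hs ⟨2 * a, by rw [hQx, h.q]; ring⟩)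
    rwa [refl_inv hr] at this
  have hax := hm 0
  rw [ap_mul, refl_fix hs (ho (by decide)), hr.2, hQx, b_comm, hBx] at hax
  have h5 := h.axis_card hax
  have hsub : ({0, 1} : Finset (Fin 6)) ⊆ FrameMax.supp Q e a (e 0 - ((4 * a)⁻¹ * (2 * a)) • x) := by
    intro m hm'
    simp only [Finset.mem_insert, Finset.mem_singleton] at hm'
    rw [FrameMax.mem_supp, FrameMax.co_sub, FrameMax.co_smul, hx, FrameMax.co_add, FrameMax.co_add, FrameMax.co_add]
    rcases hm' with rfl | rfl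
    · rw [h.co_self, h.co_ne (by decide), h.co_ne (by decide), h.co_ne (by decide)]
      intro e0
      refine mul_ne_zero h.two h.a0 ?_
      linear_combination (4 * a) * e0 + (2 * a) * (mul_inv_cancel₀ h4a)
    · rw [h.co_self, h.co_ne (by decide), h.co_ne (by decide), h.co_ne (by decide)]
      simp only [zero_sub, zero_add, add_zero, mul_one, neg_ne_zero]
      exact mul_ne_zero (inv_ne_zero h4a) (mul_ne_zero h.two h.a0)
  have h6 := Finset.card_le_card hsub
  rw [Finset.card_pair (by decide)] at h6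
  omega

/-- The standard case. -/
theorem isMaximalIn_std (hcard : (Nat.card F).Prime) (h2 : (2 : F) ≠ 0) (h3 : (3 : F) ≠ 0) {i : F}
    (hi : i * i = -1) {R : Subgroup (GL (Fin 4) F)} (hS : Spans (std i hi) R)
    (hneg : (-1 : Matrix (Fin 4) (Fin 4) F) ∈ matrixSet R) (him : i • (1 : Matrix (Fin 4) (Fin 4) F) ∈ matrixSet R)
    (hexp : ∀ g ∈ R, g ^ 4 = 1) :
    Cfsg.Geo.IsMaximalIn (Cfsg.Geo.specialLinear (Fin 4) F)
      (subgroupNormalizer R ⊓ Cfsg.Geo.specialLinear (Fin 4) F) := by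
  classical
  obtain ⟨Q, φ, hQ, hB, hap, hrange, hker⟩ := exists_klein (F := F) h2
  have h := frame_six hQ hB h2 hi
  obtain ⟨hsum, hsig, hsep⟩ := sv_facts
  have hsg : ∀ {x y : ZMod 2}, sg F x = sg F y → x = y := fun {x y} e => by
    have h11 : (-1 : F) ≠ 1 := fun e => h2 (by linear_combination -e)
    rcases (show ∀ z : ZMod 2, z = 0 ∨ z = 1 by decide) x with rfl | rfl <;>
      rcases (show ∀ z : ZMod 2, z = 0 ∨ z = 1 by decide) y with rfl | rfl
    · rfl
    · rw [sg_zero, sg_one] at e; exact absurd e.symm h11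
    · rw [sg_zero, sg_one] at e; exact absurd e h11
    · rfl
  -- the scalars of the group
  have hscal : ∀ u : F, u • (1 : Matrix (Fin 4) (Fin 4) F) ∈ matrixSet R → u ^ 4 = 1 := by
    rintro u ⟨g, hg, hg'⟩
    have e := congrArg (fun z : GL (Fin 4) F => (z : Matrix (Fin 4) (Fin 4) F)) (hexp g hg)
    dsimp only at hg'
    simp only [Units.val_pow_eq_pow_val, hg', smul_pow, one_pow, Units.val_one] at e
    simpa using congrFun₂ e 0 0
  have hdec : ∀ g ∈ R, ∃ (v : Pauli.V) (u : F) (t : ZMod 2), u * u = sg F t ∧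
      (g : Matrix (Fin 4) (Fin 4) F) = u • (std i hi).M v ∧ (g : Matrix (Fin 4) (Fin 4) F).det = 1 := by
    intro g hg
    obtain ⟨v, u, hu⟩ := hS.dec g hg
    have hu4 := hscal u (hS.scalar_mem hneg (v := v) (u := u) (hu ▸ ⟨g, hg, rfl⟩))
    have hdet : (g : Matrix (Fin 4) (Fin 4) F).det = 1 := by
      rw [hu, Matrix.det_smul, det_std, Fintype.card_fin, hu4, one_mul]
    rcases mul_self_eq_one_iff.1 (show (u * u) * (u * u) = 1 by rw [← hu4]; ring) with e | e
    · exact ⟨v, u, 0, by rw [e, sg_zero], hu, hdet⟩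
    · exact ⟨v, u, 1, by rw [e, sg_one], hu, hdet⟩
  have hact : ∀ x : SpecialLinearGroup (Fin 4) F, (x : GL (Fin 4) F) ∈ R →
      ∃ v t, ∀ l, ap (φ x) (sixE i l) = sg F (sv v t l) • sixE i l := by
    intro x hx
    obtain ⟨v, u, t, hu, hx', -⟩ := hdec _ hx
    exact ⟨v, t, fun l => by rw [hap, show x.1 = u • (std i hi).M v from hx', act_std i hi v hu]⟩
  have hex : ∀ (v : Pauli.V) (t : ZMod 2), ∃ (x : SpecialLinearGroup (Fin 4) F) (u : F),
      (x : GL (Fin 4) F) ∈ R ∧ x.1 = u • (std i hi).M v ∧ u • (1 : Matrix (Fin 4) (Fin 4) F) ∈ matrixSet R ∧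
      ∀ l, ap (φ x) (sixE i l) = sg F (sv v t l) • sixE i l := by
    intro v t
    obtain ⟨u, hu, hum⟩ : ∃ u : F, u * u = sg F t ∧ u • (1 : Matrix (Fin 4) (Fin 4) F) ∈ matrixSet R := by
      rcases (show ∀ z : ZMod 2, z = 0 ∨ z = 1 by decide) t with rfl | rfl
      · exact ⟨1, by rw [one_mul, sg_zero], by rw [one_smul]; exact Pauli.mem_one⟩
      · exact ⟨i, by rw [hi, sg_one], him⟩
    obtain ⟨g, hg, hg'⟩ := Pauli.mem_mul hum (hS.mem_M v)
    dsimp only at hg'
    rw [smul_mul_assoc, one_mul] at hg'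
    obtain ⟨-, -, -, -, -, hdet⟩ := hdec g hg
    obtain ⟨s, hs⟩ : ∃ s : SpecialLinearGroup (Fin 4) F, s.1 = (g : Matrix (Fin 4) (Fin 4) F) := ⟨⟨_, hdet⟩, rfl⟩
    refine ⟨s, u, ?_, hs.trans hg', hum, fun l => ?_⟩
    · rwa [show (s : GL (Fin 4) F) = g from Units.ext hs]
    · rw [hap, hs.trans hg', act_std i hi v hu]
  -- the normaliser is the monomial group
  have hiff : ∀ g : SpecialLinearGroup (Fin 4) F,
      (g : GL (Fin 4) F) ∈ subgroupNormalizer R ↔ FrameMax.Mono (sixE i) (φ g) := by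
    intro g
    constructor
    · intro hg l
      obtain ⟨y, hy⟩ : ∃ y, y = ap (φ g) (sixE i l) := ⟨_, rfl⟩
      rw [← hy]
      obtain ⟨m, hm⟩ : ∃ m, FrameMax.co Q (sixE i) 1 m y ≠ 0 := by
        by_contra hall
        push Not at hall
        exact h.e_ne l (ap_inj (φ g) (y := 0) (by
          rw [← hy, h.eq_zero hall]
          have := ap_smul (φ g) (0 : F) (0 : V6)
          simpa using this.symm))
      refine ⟨m, FrameMax.co Q (sixE i) 1 m y, h.ext fun m' => ?_⟩
      by_cases hmm : m' = m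
      · subst hmm; rw [FrameMax.co_smul, h.co_self, mul_one]
      rw [FrameMax.co_smul, h.co_ne hmm, mul_zero]
      by_contra hne
      obtain ⟨v, hv⟩ := hsep m' m hmm
      obtain ⟨x, u, hx, -, -, hxe⟩ := hex v 0
      have hmem : ((g⁻¹ * x * g : SpecialLinearGroup (Fin 4) F) : GL (Fin 4) F) ∈ R := by
        have h1 := (Subgroup.mem_normalizer_iff.1 ((subgroupNormalizer R).inv_mem hg) x).1 hx
        simpa [map_mul, map_inv] using h1
      obtain ⟨w, t, hw⟩ := hact _ hmem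
      have h1 : ap (φ x) y = sg F (sv w t l) • y := by
        have h2 := congrArg (ap (φ g)) (hw l)
        rwa [← ap_mul, ← map_mul, ← mul_assoc, ← mul_assoc, mul_inv_cancel, one_mul, map_mul, ap_mul, ap_smul,
          ← hy] at h2
      have hA : FrameSix.Acts (sixE i) (φ x) 1 (fun l => sg F (sv v 0 l)) := fun l =>
        ⟨sg_self F _, by rw [hxe, Equiv.Perm.one_apply]⟩
      have e1 := FrameSix.co_acts h hA m y
      have e2 := FrameSix.co_acts h hA m' y
      rw [Equiv.Perm.one_apply, h1, FrameMax.co_smul] at e1 e2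
      exact hv ((hsg (mul_right_cancel₀ hne e2)).symm.trans (hsg (mul_right_cancel₀ hm e1)))
    · intro hg
      obtain ⟨π, ε, hπε⟩ := FrameSix.acts_of_mono h hg
      refine hS.mem_normalizer hneg fun X hX => ?_
      obtain ⟨w, rfl⟩ : ∃ w, X = (std i hi).M w := by
        rcases hX with rfl | rfl | rfl | rfl
        exacts [⟨_, (std i hi).a_eq⟩, ⟨_, (std i hi).b_eq⟩, ⟨_, (std i hi).c_eq⟩, ⟨_, (std i hi).d_eq⟩]
      obtain ⟨x, ux, hx, hx', -, hxe⟩ := hex w 0
      obtain ⟨v, t, hvt⟩ := hsig (fun m => sv w 0 (π.symm m)) (by rw [Equiv.sum_comp π.symm (sv w 0)]; exact hsum w 0)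
      obtain ⟨z, u, hz, hz', hum, hze⟩ := hex v t
      have hcj : φ (g * x) = φ (z * g) := FrameSix.ext_frame h fun l => by
        rw [map_mul, map_mul, ap_mul, ap_mul, hxe, ap_smul, (hπε l).2, ap_smul, hze,
          congrFun hvt (π l), Equiv.symm_apply_apply, smul_comm]
      obtain ⟨c, hc, hM⟩ := hker _ _ hcj
      replace hM : g.1 * x.1 = c • (z.1 * g.1) := hM
      rw [hx', hz'] at hM
      have hux : ux • (1 : Matrix (Fin 4) (Fin 4) F) ∈ matrixSet R :=
        hS.scalar_mem hneg (v := w) (hx' ▸ ⟨x, hx, rfl⟩)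
      obtain ⟨k, hk, hk'⟩ := hux
      have hinv : ux⁻¹ • (1 : Matrix (Fin 4) (Fin 4) F) ∈ matrixSet R := by
        have hux0 : ux ≠ 0 := fun e => by
          have := hscal ux ⟨k, hk, hk'⟩
          rw [e] at this
          simp at this
        refine ⟨k⁻¹, R.inv_mem hk, ?_⟩
        dsimp only at hk' ⊢
        refine Units.inv_eq_of_mul_eq_one_right ?_
        rw [hk', smul_mul_assoc, one_mul, smul_smul, mul_inv_cancel₀ hux0, one_smul]
      have hcm : c • (1 : Matrix (Fin 4) (Fin 4) F) ∈ matrixSet R := by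
        rcases mul_self_eq_one_iff.1 hc with rfl | rfl
        · rw [one_smul]; exact Pauli.mem_one
        · rw [neg_one_smul]; exact hneg
      refine ⟨v, ux⁻¹ * (c * u), ?_, ?_⟩
      · have := Pauli.mem_mul hinv (Pauli.mem_mul hcm hum)
        simpa only [smul_mul_assoc, one_mul, smul_smul] using this
      · have hux0 : ux ≠ 0 := fun e => by
          have := hscal ux ⟨k, hk, hk'⟩
          rw [e] at this
          simp at this
        rw [mul_smul_comm, smul_mul_assoc, smul_smul] at hM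
        show g.1 * _ = _ • (_ * g.1)
        rw [← smul_smul, ← hM, smul_smul, inv_mul_cancel₀ hux0, one_smul]
  refine ⟨lt_of_le_not_ge inf_le_right fun hle => ?_, fun N hN hN' => ?_⟩
  · obtain ⟨x, hx, hnm⟩ := not_mono h
    obtain ⟨g, rfl⟩ : x ∈ φ.range := hrange.symm ▸ hx
    exact hnm ((hiff g).1 (hle (MinIndex.mem_specialLinear.2 ⟨g, rfl⟩)).1)
  have hcore := FrameSix.frame_or_omega (M := (N.comap SpecialLinearGroup.toGL).map φ) h (fun x hm hx => by
    obtain ⟨g, rfl⟩ : x ∈ φ.range := hrange.symm ▸ hx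
    exact ⟨g, hN ⟨(hiff g).2 hm, MinIndex.mem_specialLinear.2 ⟨g, rfl⟩⟩, rfl⟩) hcard (Or.inl h3)
  rcases hcore with hall | htop
  · refine Or.inl (le_antisymm (fun k hk => ?_) hN)
    obtain ⟨g, rfl⟩ := MinIndex.mem_specialLinear.1 (hN' hk)
    exact ⟨(hiff g).2 (hall _ ⟨g, hk, rfl⟩), MinIndex.mem_specialLinear.2 ⟨g, rfl⟩⟩
  · refine Or.inr (le_antisymm hN' fun k hk => ?_)
    obtain ⟨g, rfl⟩ := MinIndex.mem_specialLinear.1 hk
    obtain ⟨m, hm, hmg⟩ := htop (show φ g ∈ Cfsg.Omega F ⇑Q by rw [← hrange]; exact ⟨g, rfl⟩)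
    obtain ⟨y, hy⟩ : ∃ y, y = m⁻¹ * g := ⟨_, rfl⟩
    have h1 : φ y = 1 := by rw [hy, map_mul, map_inv, hmg, inv_mul_cancel]
    have h5 : (y : GL (Fin 4) F) ∈ N := hN ⟨(hiff y).2 (by rw [h1]; exact FrameMax.Frame.mono_one),
      MinIndex.mem_specialLinear.2 ⟨y, rfl⟩⟩
    have h6 := N.mul_mem hm h5
    rwa [← map_mul, hy, mul_inv_cancel_left] at h6

/-- The normaliser of a group of symplectic type is maximal in `SL_4(p)`, `p ≡ 1 (mod 4)`. -/
theorem isMaximalIn_symp {p : ℕ} (hp : p.Prime) (hF : Fintype.card F = p) (hp4 : p % 4 = 1)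
    (R : Subgroup (GL (Fin 4) F)) (hR : IsLinearSymplecticTypeData 2 R) :
    Cfsg.Geo.IsMaximalIn (Cfsg.Geo.specialLinear (Fin 4) F)
      (subgroupNormalizer R ⊓ Cfsg.Geo.specialLinear (Fin 4) F) := by
  classical
  haveI : Fact p.Prime := ⟨hp⟩
  haveI : CharP F p := charP_of_card_eq_prime hF
  have hne : ∀ k : ℕ, 0 < k → k < 5 → ((k : ℕ) : F) ≠ 0 := fun k h0 h5 e => by
    have := Nat.le_of_dvd h0 ((CharP.cast_eq_zero_iff F p k).1 e)
    have := hp.two_le
    omega
  have h2 : (2 : F) ≠ 0 := by exact_mod_cast hne 2 (by norm_num) (by norm_num)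
  have h3 : (3 : F) ≠ 0 := by exact_mod_cast hne 3 (by norm_num) (by norm_num)
  have h4 : Fintype.card (Fin 4) = 4 := Fintype.card_fin 4
  obtain ⟨hs, habs, p', e, -, -, hcases⟩ := hR
  obtain ⟨hZ, m, hm⟩ : Nat.card (Subgroup.center R) = 4 ∧ ∃ m : ℕ, Nat.card R = 2 ^ (2 + 2 * m) := by
    rcases hcases with ⟨h, -⟩ | ⟨-, -, h, -, h'⟩ | ⟨-, -, h, -⟩
    · exact absurd h (by decide)
    · exact ⟨h, h'⟩
    · simp at h
  have h64 := card_eq_sixty_four h2 h4 hs habs hZ hm
  obtain ⟨⟨f, hf⟩, hneg, hi'⟩ := exists_spans h2 h4 hs habs (z := 4) (by rw [h64]) hZ (Or.inl rfl)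
  obtain ⟨i, hi, him⟩ := hi' rfl
  obtain ⟨P, hP⟩ := exists_basis h2 f hi
  obtain ⟨R₀, hR₀⟩ : ∃ R₀, R₀ = R.map (MulAut.conj P⁻¹).toMonoidHom := ⟨_, rfl⟩
  have hmem : ∀ {X : Matrix (Fin 4) (Fin 4) F}, X ∈ matrixSet R →
      ((P⁻¹ : GL (Fin 4) F) : Matrix (Fin 4) (Fin 4) F) * X * (P : Matrix (Fin 4) (Fin 4) F) ∈ matrixSet R₀ := by
    rintro X ⟨g, hg, rfl⟩
    exact ⟨(MulAut.conj P⁻¹) g, hR₀ ▸ Subgroup.mem_map_of_mem _ hg, by simp [Matrix.mul_assoc]⟩
  have hM : ∀ v, ((P⁻¹ : GL (Fin 4) F) : Matrix (Fin 4) (Fin 4) F) * f.M v * (P : Matrix (Fin 4) (Fin 4) F) =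
      (std i hi).M v := fun v => by
    rw [Matrix.mul_assoc, hP, ← Matrix.mul_assoc, P.inv_mul, Matrix.one_mul]
  have hsc : ∀ c : F, c • (1 : Matrix (Fin 4) (Fin 4) F) ∈ matrixSet R →
      c • (1 : Matrix (Fin 4) (Fin 4) F) ∈ matrixSet R₀ := fun c hc => by
    have := hmem hc
    rwa [Matrix.mul_smul, Matrix.mul_one, Matrix.smul_mul, P.inv_mul] at this
  have hS : Spans (std i hi) R₀ := by
    have hgen : ∀ v, (std i hi).M v ∈ matrixSet R₀ := fun v => hM v ▸ hmem (hf.mem_M v)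
    refine ⟨?_, ?_, ?_, ?_, ?_⟩
    · rw [(std i hi).a_eq]; exact hgen _
    · rw [(std i hi).b_eq]; exact hgen _
    · rw [(std i hi).c_eq]; exact hgen _
    · rw [(std i hi).d_eq]; exact hgen _
    · rw [hR₀]
      rintro _ ⟨g, hg, rfl⟩
      obtain ⟨v, u, hu⟩ := hf.dec g hg
      refine ⟨v, u, ?_⟩
      rw [← hM]
      simp [hu, Matrix.mul_assoc]
  have hmax := isMaximalIn_std (by rw [Nat.card_eq_fintype_card, hF]; exact hp) h2 h3 hi hS
    (by have := hsc (-1) (by rw [neg_one_smul]; exact hneg); rwa [neg_one_smul] at this) (hsc i him) (by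
      rw [hR₀]
      rintro _ ⟨g, hg, rfl⟩
      have hx : (⟨g, hg⟩ : R) ^ 4 = 1 := by
        have := Monoid.pow_exponent_eq_one (⟨g, hg⟩ : R)
        rwa [hs.exponent_eq, show 2 * Nat.gcd 2 2 = 4 from rfl] at this
      rw [← map_pow, show g ^ 4 = 1 from congrArg Subtype.val hx, map_one])
  have hconj := CfsgLib.Classical.MinIndex.Subfield.isMaximalIn_map hmax (MulAut.conj P)
  have hK : (Cfsg.Geo.specialLinear (Fin 4) F).map (MulAut.conj P).toMonoidHom =
      Cfsg.Geo.specialLinear (Fin 4) F := by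
    refine le_antisymm ?_ fun g hg => ⟨P⁻¹ * g * P, ?_, by simp [mul_assoc]⟩
    · rintro _ ⟨g, hg, rfl⟩
      exact (MonoidHom.normal_ker _).conj_mem g hg P
    · have h := (MonoidHom.normal_ker (Matrix.GeneralLinearGroup.det : GL (Fin 4) F →* Fˣ)).conj_mem g hg P⁻¹
      rwa [inv_inv] at h
  have hback : R₀.map (MulAut.conj P).toMonoidHom = R := by
    rw [hR₀, Subgroup.map_map, show (MulAut.conj P).toMonoidHom.comp (MulAut.conj P⁻¹).toMonoidHom = MonoidHom.id _
      from MonoidHom.ext fun x => by simp [mul_assoc], Subgroup.map_id]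
  rwa [Subgroup.map_inf _ _ _ (MulAut.conj P).injective, hK, subgroupNormalizer,
    Subgroup.map_equiv_normalizer_eq, hback] at hconj

end CfsgLib.Classical.SLFour.SympFour
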